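import Mathlib
import Cfsg.Agent.Lib.Helper56.TC
import Cfsg.Agent.Lib.Helper56.TCFast
import Cfsg.Agent.Lib.Helper28.CoverL
import Cfsg.Agent.Lib.Helper28.Sp6Mult.Words
import Cfsg.Agent.Lib.Helper28.Sp6Mult.L0.DA0
set_option autoImplicit false
set_option maxRecDepth 1000000

namespace Cfsg.Agent.Lib.Helper28.Sp6Mult.L0

open Cfsg.Agent.Lib.Helper56.TC Cfsg.Agent.Lib.Helper56.TC.Tabs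
open Cfsg.Agent.Lib.Helper28.CovL

open Cfsg.Agent.Lib.Helper28.Sp6Mult.Words

noncomputable def nA : List (List ℕ) := [nA0, nA1, nA2, nA3, nA4, nA5, nA6, nA7, nA8, nA9, nA10, nA11, nA12, nA13, nA14]

noncomputable def fA : List (List ℕ) := [fA0]

/-- The certificate data. -/
noncomputable def T : Tabs where
  K := 6
  N := 480
  N' := 24249
  INF := 40483
  fuel := 9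
  inv := fun l => Tabs.nth 0 [1, 0, 3, 2, 5, 4] l
  tg := slotFld2 nA 51 316 133499189745056880149688856635597007162669032647290798121690100488888732861290034376435130433535 6 44 52 32767 (fun _ => 0)
  rk := slotFld2 nA 51 316 133499189745056880149688856635597007162669032647290798121690100488888732861290034376435130433535 6 44 67 65535
    (fun x => Nat.rec (motive := fun _ => ℕ) 0 (fun _ _ => 40483) x)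
  jc := slotFld2 nA 51 316 133499189745056880149688856635597007162669032647290798121690100488888732861290034376435130433535 6 44 83 8191
    (fun x => Nat.rec (motive := fun _ => ℕ) 3 (fun _ _ => 0) x)
  dd := fldA nA 51 316 133499189745056880149688856635597007162669032647290798121690100488888732861290034376435130433535 0 15
  dl := fldA nA 51 316 133499189745056880149688856635597007162669032647290798121690100488888732861290034376435130433535 4 7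
  qj := fldA nA 51 316 133499189745056880149688856635597007162669032647290798121690100488888732861290034376435130433535 7 16383
  mp := fldA nA 51 316 133499189745056880149688856635597007162669032647290798121690100488888732861290034376435130433535 21 32767
  mt := fldA nA 51 316 133499189745056880149688856635597007162669032647290798121690100488888732861290034376435130433535 36 65535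
  tb := tbFld2 fA 210 78 302231454903657293676543 9 24 511
  rels1 := coverList 3 relL0 (fun x => facsL0.getD x [])
  subs := subs0
  rx := [[2, 0, 0, 3, 1, 1],
    [4, 0, 0, 5, 1, 1],
    [0, 2, 2, 2, 2, 2, 2, 2, 2, 1, 3, 3, 3, 3, 3, 3, 3, 3],
    [4, 2, 2, 2, 2, 2, 2, 2, 2, 5, 3, 3, 3, 3, 3, 3, 3, 3],
    [0, 3, 3, 3, 3, 3, 3, 3, 3, 1, 2, 2, 2, 2, 2, 2, 2, 2],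
    [4, 3, 3, 3, 3, 3, 3, 3, 3, 5, 2, 2, 2, 2, 2, 2, 2, 2],
    [0, 3, 0, 3, 0, 3, 0, 3, 0, 3, 0, 3, 0, 1, 1, 2, 1, 2, 1, 2, 1, 2, 1, 2, 1, 2],
    [2, 3, 0, 3, 0, 3, 0, 3, 0, 3, 0, 3, 0, 3, 1, 2, 1, 2, 1, 2, 1, 2, 1, 2, 1, 2],
    [4, 3, 0, 3, 0, 3, 0, 3, 0, 3, 0, 3, 0, 5, 1, 2, 1, 2, 1, 2, 1, 2, 1, 2, 1, 2],
    [0, 3, 3, 3, 3, 0, 3, 3, 3, 3, 0, 3, 3, 3, 3, 0, 1, 1, 2, 2, 2, 2, 1, 2, 2, 2, 2, 1, 2, 2, 2, 2],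
    [2, 3, 3, 3, 3, 0, 3, 3, 3, 3, 0, 3, 3, 3, 3, 0, 3, 1, 2, 2, 2, 2, 1, 2, 2, 2, 2, 1, 2, 2, 2, 2],
    [4, 3, 3, 3, 3, 0, 3, 3, 3, 3, 0, 3, 3, 3, 3, 0, 5, 1, 2, 2, 2, 2, 1, 2, 2, 2, 2, 1, 2, 2, 2, 2],
    [0, 3, 3, 3, 3, 0, 3, 3, 3, 3, 0, 2, 2, 2, 2, 0, 1, 1, 3, 3, 3, 3, 1, 2, 2, 2, 2, 1, 2, 2, 2, 2],
    [2, 3, 3, 3, 3, 0, 3, 3, 3, 3, 0, 2, 2, 2, 2, 0, 3, 1, 3, 3, 3, 3, 1, 2, 2, 2, 2, 1, 2, 2, 2, 2],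
    [4, 3, 3, 3, 3, 0, 3, 3, 3, 3, 0, 2, 2, 2, 2, 0, 5, 1, 3, 3, 3, 3, 1, 2, 2, 2, 2, 1, 2, 2, 2, 2],
    [0, 3, 3, 0, 3, 0, 3, 3, 0, 3, 0, 3, 3, 0, 3, 0, 1, 1, 2, 1, 2, 2, 1, 2, 1, 2, 2, 1, 2, 1, 2, 2],
    [2, 3, 3, 0, 3, 0, 3, 3, 0, 3, 0, 3, 3, 0, 3, 0, 3, 1, 2, 1, 2, 2, 1, 2, 1, 2, 2, 1, 2, 1, 2, 2],
    [4, 3, 3, 0, 3, 0, 3, 3, 0, 3, 0, 3, 3, 0, 3, 0, 5, 1, 2, 1, 2, 2, 1, 2, 1, 2, 2, 1, 2, 1, 2, 2],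
    [0, 3, 0, 2, 0, 3, 0, 2, 0, 3, 0, 2, 0, 3, 0, 2, 0, 1, 1, 3, 1, 2, 1, 3, 1, 2, 1, 3, 1, 2, 1, 3, 1, 2],
    [2, 3, 0, 2, 0, 3, 0, 2, 0, 3, 0, 2, 0, 3, 0, 2, 0, 3, 1, 3, 1, 2, 1, 3, 1, 2, 1, 3, 1, 2, 1, 3, 1, 2],
    [4, 3, 0, 2, 0, 3, 0, 2, 0, 3, 0, 2, 0, 3, 0, 2, 0, 5, 1, 3, 1, 2, 1, 3, 1, 2, 1, 3, 1, 2, 1, 3, 1, 2],
    [0, 3, 3, 0, 3, 0, 3, 0, 2, 0, 2, 0, 2, 0, 3, 0, 3, 0, 1, 1, 2, 1, 2, 1, 3, 1, 3, 1, 3, 1, 2, 1, 2, 1, 2, 2],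
    [2, 3, 3, 0, 3, 0, 3, 0, 2, 0, 2, 0, 2, 0, 3, 0, 3, 0, 3, 1, 2, 1, 2, 1, 3, 1, 3, 1, 3, 1, 2, 1, 2, 1, 2, 2],
    [4, 3, 3, 0, 3, 0, 3, 0, 2, 0, 2, 0, 2, 0, 3, 0, 3, 0, 5, 1, 2, 1, 2, 1, 3, 1, 3, 1, 3, 1, 2, 1, 2, 1, 2, 2],
    [0, 3, 3, 3, 3, 3, 3, 3, 0, 2, 0, 2, 0, 2, 0, 2, 0, 2, 0, 1, 1, 3, 1, 3, 1, 3, 1, 3, 1, 3, 1, 2, 2, 2, 2, 2, 2, 2],
    [2, 3, 3, 3, 3, 3, 3, 3, 0, 2, 0, 2, 0, 2, 0, 2, 0, 2, 0, 3, 1, 3, 1, 3, 1, 3, 1, 3, 1, 3, 1, 2, 2, 2, 2, 2, 2, 2],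
    [4, 3, 3, 3, 3, 3, 3, 3, 0, 2, 0, 2, 0, 2, 0, 2, 0, 2, 0, 5, 1, 3, 1, 3, 1, 3, 1, 3, 1, 3, 1, 2, 2, 2, 2, 2, 2, 2],
    [0, 3, 3, 3, 3, 3, 3, 0, 2, 0, 2, 2, 0, 2, 0, 2, 2, 0, 2, 0, 1, 1, 3, 1, 3, 3, 1, 3, 1, 3, 3, 1, 3, 1, 2, 2, 2, 2, 2, 2],
    [2, 3, 3, 3, 3, 3, 3, 0, 2, 0, 2, 2, 0, 2, 0, 2, 2, 0, 2, 0, 3, 1, 3, 1, 3, 3, 1, 3, 1, 3, 3, 1, 3, 1, 2, 2, 2, 2, 2, 2],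
    [4, 3, 3, 3, 3, 3, 3, 0, 2, 0, 2, 2, 0, 2, 0, 2, 2, 0, 2, 0, 5, 1, 3, 1, 3, 3, 1, 3, 1, 3, 3, 1, 3, 1, 2, 2, 2, 2, 2, 2],
    [0, 3, 3, 0, 3, 3, 0, 3, 0, 2, 0, 2, 2, 0, 2, 2, 0, 2, 0, 3, 0, 1, 1, 2, 1, 3, 1, 3, 3, 1, 3, 3, 1, 3, 1, 2, 1, 2, 2, 1, 2, 2],
    [2, 3, 3, 0, 3, 3, 0, 3, 0, 2, 0, 2, 2, 0, 2, 2, 0, 2, 0, 3, 0, 3, 1, 2, 1, 3, 1, 3, 3, 1, 3, 3, 1, 3, 1, 2, 1, 2, 2, 1, 2, 2],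
    [4, 3, 3, 0, 3, 3, 0, 3, 0, 2, 0, 2, 2, 0, 2, 2, 0, 2, 0, 3, 0, 5, 1, 2, 1, 3, 1, 3, 3, 1, 3, 3, 1, 3, 1, 2, 1, 2, 2, 1, 2, 2],
    [0, 3, 3, 3, 3, 3, 3, 0, 2, 0, 2, 0, 3, 0, 3, 0, 3, 0, 2, 0, 2, 0, 1, 1, 3, 1, 3, 1, 2, 1, 2, 1, 2, 1, 3, 1, 3, 1, 2, 2, 2, 2, 2, 2],
    [2, 3, 3, 3, 3, 3, 3, 0, 2, 0, 2, 0, 3, 0, 3, 0, 3, 0, 2, 0, 2, 0, 3, 1, 3, 1, 3, 1, 2, 1, 2, 1, 2, 1, 3, 1, 3, 1, 2, 2, 2, 2, 2, 2],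
    [4, 3, 3, 3, 3, 3, 3, 0, 2, 0, 2, 0, 3, 0, 3, 0, 3, 0, 2, 0, 2, 0, 5, 1, 3, 1, 3, 1, 2, 1, 2, 1, 2, 1, 3, 1, 3, 1, 2, 2, 2, 2, 2, 2],
    [0, 3, 3, 3, 3, 0, 3, 3, 3, 0, 2, 0, 2, 0, 2, 0, 2, 0, 3, 3, 3, 0, 1, 1, 2, 2, 2, 1, 3, 1, 3, 1, 3, 1, 3, 1, 2, 2, 2, 1, 2, 2, 2, 2],
    [2, 3, 3, 3, 3, 0, 3, 3, 3, 0, 2, 0, 2, 0, 2, 0, 2, 0, 3, 3, 3, 0, 3, 1, 2, 2, 2, 1, 3, 1, 3, 1, 3, 1, 3, 1, 2, 2, 2, 1, 2, 2, 2, 2],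
    [4, 3, 3, 3, 3, 0, 3, 3, 3, 0, 2, 0, 2, 0, 2, 0, 2, 0, 3, 3, 3, 0, 5, 1, 2, 2, 2, 1, 3, 1, 3, 1, 3, 1, 3, 1, 2, 2, 2, 1, 2, 2, 2, 2],
    [0, 4, 4, 1, 5, 5],
    [2, 4, 4, 3, 5, 5],
    [0, 4, 3, 4, 3, 4, 3, 4, 3, 4, 3, 1, 2, 5, 2, 5, 2, 5, 2, 5, 2, 5],
    [2, 4, 3, 4, 3, 4, 3, 4, 3, 4, 3, 3, 2, 5, 2, 5, 2, 5, 2, 5, 2, 5],
    [4, 4, 3, 4, 3, 4, 3, 4, 3, 4, 3, 5, 2, 5, 2, 5, 2, 5, 2, 5, 2, 5],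
    [0, 4, 0, 3, 0, 2, 0, 4, 0, 3, 0, 2, 0, 1, 1, 3, 1, 2, 1, 5, 1, 3, 1, 2, 1, 5],
    [2, 4, 0, 3, 0, 2, 0, 4, 0, 3, 0, 2, 0, 3, 1, 3, 1, 2, 1, 5, 1, 3, 1, 2, 1, 5],
    [4, 4, 0, 3, 0, 2, 0, 4, 0, 3, 0, 2, 0, 5, 1, 3, 1, 2, 1, 5, 1, 3, 1, 2, 1, 5],
    [0, 4, 0, 2, 0, 3, 0, 4, 0, 2, 0, 3, 0, 1, 1, 2, 1, 3, 1, 5, 1, 2, 1, 3, 1, 5],
    [2, 4, 0, 2, 0, 3, 0, 4, 0, 2, 0, 3, 0, 3, 1, 2, 1, 3, 1, 5, 1, 2, 1, 3, 1, 5],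
    [4, 4, 0, 2, 0, 3, 0, 4, 0, 2, 0, 3, 0, 5, 1, 2, 1, 3, 1, 5, 1, 2, 1, 3, 1, 5],
    [0, 4, 3, 0, 3, 0, 3, 0, 4, 3, 0, 3, 0, 3, 0, 1, 1, 2, 1, 2, 1, 2, 5, 1, 2, 1, 2, 1, 2, 5],
    [2, 4, 3, 0, 3, 0, 3, 0, 4, 3, 0, 3, 0, 3, 0, 3, 1, 2, 1, 2, 1, 2, 5, 1, 2, 1, 2, 1, 2, 5],
    [4, 4, 3, 0, 3, 0, 3, 0, 4, 3, 0, 3, 0, 3, 0, 5, 1, 2, 1, 2, 1, 2, 5, 1, 2, 1, 2, 1, 2, 5],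
    [3, 0, 3, 0, 3, 0, 3, 0, 3, 0, 3, 0, 1, 2, 2, 2, 1, 3, 1, 3, 1, 3, 1, 3, 1, 2, 2, 2, 1, 2, 2, 2, 2],
    [0, 0, 0, 0, 0, 0, 1, 3, 1, 3, 3, 1, 3, 1, 3, 3, 1, 3, 1, 2, 2, 2, 2, 2, 2],
    [0, 0, 0, 0, 0, 0, 0, 0, 0, 0, 0, 0, 0, 0, 0, 0, 0, 0, 0, 0, 0, 0, 0, 0, 0, 0, 0, 0, 0, 0, 1, 3, 1, 3, 3, 1, 3, 1, 3, 3, 1, 3, 1, 2, 2, 2, 2, 2, 2, 1, 3, 1, 3, 3, 1, 3, 1, 3, 3, 1, 3, 1, 2, 2, 2, 2, 2, 2, 1, 3, 1, 3, 3, 1, 3, 1, 3, 3, 1, 3, 1, 2, 2, 2, 2, 2, 2, 1, 3, 1, 3, 3, 1, 3, 1, 3, 3, 1, 3, 1, 2, 2, 2, 2, 2, 2, 1, 3, 1, 3, 3, 1, 3, 1, 3, 3, 1, 3, 1, 2, 2, 2, 2, 2, 2, 4, 4, 4, 4, 2, 5, 2, 5, 2, 5, 2, 5, 2, 5],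
    [0, 6],
    [2, 7]]
  RB := 140
  tpl := fldA fA 210 78 302231454903657293676543 0 7
  tdep := fldA fA 210 78 302231454903657293676543 3 15
  ol := fldA fA 210 78 302231454903657293676543 7 7
  oc := fldA fA 210 78 302231454903657293676543 10 1
  op := fldA fA 210 78 302231454903657293676543 11 511
  odep := fldA fA 210 78 302231454903657293676543 20 15
  orep := fun c => Tabs.nth 0 [0, 1, 6, 12, 16, 17, 478, 479] c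

end Cfsg.Agent.Lib.Helper28.Sp6Mult.L0
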